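import Mathlib
import Cfsg.Agent.H19.Ly.R111.D0

set_option autoImplicit false
set_option maxRecDepth 100000
set_option Elab.async false
set_option linter.all false

namespace H19.Ly.R111
open H29

noncomputable def PCM : ℕ := geo (2 ^ 22 - 1) 2442 111
noncomputable def PRM : ℕ := 2 ^ 2442 - 1
noncomputable def PQM : ℕ := geo2 (2 ^ 9 - 1) 22 111
noncomputable def Pone : ℕ := geo 1 2464 111
noncomputable abbrev P : PM := ⟨5, 111, 22, 1639, 13, 2442, PCM, PRM, PQM, Pone⟩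
theorem Pok : P.OK := PM.ok_of_chk (by decide +kernel)
noncomputable def lcl : List ℕ := [m0, m1, m2, m3, m4, m5, m6, m7, m8, m9, m10, m11, m12, m13, m14, m15, m16, m17, m18, m19, m20, m21, m22, m23, m24, m25, m26, m27, m28, m29, m30, m31, m32, m33, m34, m35, m36, m37, m38, m39, m40, m41, m42, m43, m44, m45, m46, m47, m48, m49, m50, m51, m52, m53, m54, m55, m56, m57, m58, m59, m60, m61, m62, m63, m64, m65, m66, m67, m68, m69, m70, m71, m72, m73, m74, m75, m76, m77]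
noncomputable def lc : ℕ → ℕ := nth P.one lcl
def ivl : List ℕ := [1, 0, 3, 2, 5, 4, 7, 6, 9, 8, 11, 10, 13, 12, 15, 14, 17, 16, 19, 18, 21, 20, 23, 22, 25, 24, 27, 26, 29, 28, 31, 30, 33, 32, 35, 34, 37, 36, 39, 38, 41, 40, 43, 42, 45, 44, 47, 46, 49, 48, 51, 50, 53, 52, 55, 54, 57, 56, 59, 58, 61, 60, 63, 62, 65, 64, 67, 66, 69, 68, 71, 70, 73, 72, 75, 74, 77, 76]
theorem hii : ∀ c, ivOf ivl (ivOf ivl c) = c := ivOf_ivOf (by decide +kernel)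
def G0 : List (List ℕ) := [[0, 0, 0, 0, 0, 0, 0, 0], [2, 2, 2, 2, 2], [0, 2, 0, 2, 0, 2, 0, 2], [1, 1, 3, 0, 0, 2], [1, 3, 0, 2, 1, 3, 0, 2, 1, 3, 0, 2]]
def G1 : List (List ℕ) := [[10, 5], [12, 1, 5, 0], [14, 3, 5, 2], [16, 2, 5, 3], [18, 13, 11, 12, 10], [10, 10, 10, 10, 10], [18, 18, 18, 18, 18], [11, 19, 10, 18], [13, 19, 12, 18]]
def G2 : List (List ℕ) := [[15, 19, 14, 18], [17, 19, 16, 18], [11, 15, 10, 14, 18, 18], [11, 17, 10, 16, 19, 19], [13, 15, 12, 14, 18], [13, 17, 12, 16], [15, 17, 14, 16, 18], [1, 12, 0, 10, 10]]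
def G3 : List (List ℕ) := [[1, 14, 0, 17, 11, 14, 14], [1, 16, 0, 17, 11, 17, 14, 12, 11], [1, 18, 0, 19, 19], [3, 12, 2, 16, 10, 16, 15, 13], [3, 14, 2, 14, 14, 17, 11, 11]]
def G4 : List (List ℕ) := [[3, 18, 2, 19], [8, 7, 11, 7, 2, 1, 3, 11, 7, 1, 11, 0, 11, 1, 10, 0, 2, 2], [8, 8], [9, 10, 8, 10, 3, 15, 3]]
def G5 : List (List ℕ) := [[9, 14, 8, 0, 16, 10, 13, 1, 3, 3], [9, 16, 8, 17, 14, 3, 3], [9, 18, 8, 16, 11, 14, 11], [8, 0, 0, 8, 16, 19, 11, 1, 2, 1, 3, 3, 1]]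
def G6 : List (List ℕ) := [[9, 2, 8, 16, 16, 14, 11], [8, 0, 2, 2, 0, 3, 0, 8, 16, 19, 11, 1, 1], [8, 12, 8, 13, 8, 12, 17, 0, 14, 0, 0, 0]]
def G7 : List (List ℕ) := [[6, 9, 3, 12, 1, 9, 1, 9, 1, 18, 16, 10, 2, 0, 3, 3, 1], [6, 6, 1, 1, 1, 1], [3, 7, 2, 6], [7, 0, 6, 1, 1, 1]]
def G8 : List (List ℕ) := [[6, 18, 6, 18, 6, 18, 6, 18, 6, 18], [6, 18, 6, 19, 6, 18, 1, 1], [20, 1], [22, 2, 1, 3], [24, 2, 2, 1, 3, 3], [26, 3, 3, 1, 2, 2], [28, 1, 1]]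
def G9 : List (List ℕ) := [[30, 7], [32, 6], [34, 3, 5, 0, 3, 3, 4, 7, 4, 0, 5, 1, 4, 3, 3, 0, 2, 0, 3, 3]]
def G10 : List (List ℕ) := [[36, 5, 3, 5, 7, 2, 2, 5, 7, 2, 5, 3, 5, 1, 4, 3, 3, 0, 3, 3, 0, 3, 1], [38, 6, 4, 3, 0, 4, 0, 6, 4], [40, 7, 3], [42, 2, 6]]
def G11 : List (List ℕ) := [[44, 1, 3, 4, 1, 2, 4, 3, 0, 2, 0], [46, 3, 5, 3, 0, 5, 1, 2, 2], [48, 1, 3, 1, 5, 0, 2, 0], [50, 3, 1, 2, 5, 3, 0, 2]]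
def G12 : List (List ℕ) := [[52, 4, 2, 2, 5, 1, 3, 5, 2, 0, 3, 3], [54, 0, 0, 0], [56, 0, 0, 2, 0, 3], [58, 0, 2, 2, 1, 3, 3, 1]]
def G13 : List (List ℕ) := [[60, 2, 1, 3, 1, 2, 1, 4, 0, 2, 4, 3, 6, 4, 3, 0, 4, 2, 7, 0], [62, 6, 2, 5, 0, 5, 1, 5, 7, 4, 4, 0, 3, 4, 3, 5, 0, 2, 2, 1]]
def G14 : List (List ℕ) := [[64, 5, 3, 5, 7, 2, 2, 5, 7, 3, 5, 3, 3, 5, 2, 0, 2, 2, 0, 2, 1, 3]]
def G15 : List (List ℕ) := [[66, 2, 0, 3, 1, 3, 3, 1, 3, 4, 2, 2, 4, 2, 6, 4, 3, 3, 6, 4, 2, 4]]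
def G16 : List (List ℕ) := [[68, 2, 2, 0, 2, 4, 2, 2, 5, 1, 4, 0, 6, 4, 1, 2, 4, 1, 6, 4, 0], [70, 2, 1, 2, 2, 1, 2, 4, 2, 0, 3, 6, 4, 2, 0, 3, 6, 4, 0]]
def G17 : List (List ℕ) := [[72, 0, 3, 0, 2, 2, 0, 5, 0, 2, 1, 6, 4, 0, 5, 3, 5, 1, 6], [74, 3, 0, 2, 0, 2, 5, 1, 5, 0, 5, 6, 4, 3, 5, 0, 4], [77, 10, 76, 45]]
def G18 : List (List ℕ) := [[77, 12, 76, 47], [77, 14, 76, 49], [77, 16, 76, 51], [77, 18, 76, 53], [77, 20, 76, 55], [77, 22, 76, 57], [77, 24, 76, 59], [76, 76, 29], [26, 76, 26, 76, 26, 76, 28]]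
def G19 : List (List ℕ) := [[38, 76, 60, 76, 68, 76], [77, 32, 77, 70, 76, 30, 76, 36], [76, 64, 76, 62, 77, 66, 77, 72], [76, 40, 76, 34, 77, 42, 77, 74]]

end H19.Ly.R111
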