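import Mathlib
import Cfsg.Agent.H19.Ly.R111.B

set_option autoImplicit false
set_option maxRecDepth 100000
set_option Elab.async false
set_option linter.all false

namespace H19.Ly.R111
open H29

theorem l0 : P.chkLet 3 lcl ivl 0 = true := by decide +kernel

theorem l1 : P.chkLet 3 lcl ivl 1 = true := by decide +kernel

theorem l2 : P.chkLet 3 lcl ivl 2 = true := by decide +kernel

theorem l3 : P.chkLet 3 lcl ivl 3 = true := by decide +kernel

theorem l4 : P.chkLet 3 lcl ivl 4 = true := by decide +kernel

theorem l5 : P.chkLet 3 lcl ivl 5 = true := by decide +kernel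

theorem l6 : P.chkLet 3 lcl ivl 6 = true := by decide +kernel

theorem l7 : P.chkLet 3 lcl ivl 7 = true := by decide +kernel

theorem l8 : P.chkLet 3 lcl ivl 8 = true := by decide +kernel

theorem l9 : P.chkLet 3 lcl ivl 9 = true := by decide +kernel

theorem l10 : P.chkLet 3 lcl ivl 10 = true := by decide +kernel

theorem l11 : P.chkLet 3 lcl ivl 11 = true := by decide +kernel

theorem l12 : P.chkLet 3 lcl ivl 12 = true := by decide +kernel

theorem l13 : P.chkLet 3 lcl ivl 13 = true := by decide +kernel

theorem l14 : P.chkLet 3 lcl ivl 14 = true := by decide +kernel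

theorem l15 : P.chkLet 3 lcl ivl 15 = true := by decide +kernel

theorem l16 : P.chkLet 3 lcl ivl 16 = true := by decide +kernel

theorem l17 : P.chkLet 3 lcl ivl 17 = true := by decide +kernel

theorem l18 : P.chkLet 3 lcl ivl 18 = true := by decide +kernel

theorem l19 : P.chkLet 3 lcl ivl 19 = true := by decide +kernel

theorem l20 : P.chkLet 3 lcl ivl 20 = true := by decide +kernel

theorem l21 : P.chkLet 3 lcl ivl 21 = true := by decide +kernel

theorem l22 : P.chkLet 3 lcl ivl 22 = true := by decide +kernel

theorem l23 : P.chkLet 3 lcl ivl 23 = true := by decide +kernel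

theorem l24 : P.chkLet 3 lcl ivl 24 = true := by decide +kernel

theorem l25 : P.chkLet 3 lcl ivl 25 = true := by decide +kernel

theorem l26 : P.chkLet 3 lcl ivl 26 = true := by decide +kernel

theorem l27 : P.chkLet 3 lcl ivl 27 = true := by decide +kernel

theorem l28 : P.chkLet 3 lcl ivl 28 = true := by decide +kernel

theorem l29 : P.chkLet 3 lcl ivl 29 = true := by decide +kernel

theorem l30 : P.chkLet 3 lcl ivl 30 = true := by decide +kernel

theorem l31 : P.chkLet 3 lcl ivl 31 = true := by decide +kernel

theorem l32 : P.chkLet 3 lcl ivl 32 = true := by decide +kernel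

theorem l33 : P.chkLet 3 lcl ivl 33 = true := by decide +kernel

theorem l34 : P.chkLet 3 lcl ivl 34 = true := by decide +kernel

theorem l35 : P.chkLet 3 lcl ivl 35 = true := by decide +kernel

theorem l36 : P.chkLet 3 lcl ivl 36 = true := by decide +kernel

theorem l37 : P.chkLet 3 lcl ivl 37 = true := by decide +kernel

theorem l38 : P.chkLet 3 lcl ivl 38 = true := by decide +kernel

theorem l39 : P.chkLet 3 lcl ivl 39 = true := by decide +kernel

theorem l40 : P.chkLet 3 lcl ivl 40 = true := by decide +kernel

theorem l41 : P.chkLet 3 lcl ivl 41 = true := by decide +kernel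

theorem l42 : P.chkLet 3 lcl ivl 42 = true := by decide +kernel

theorem l43 : P.chkLet 3 lcl ivl 43 = true := by decide +kernel

theorem l44 : P.chkLet 3 lcl ivl 44 = true := by decide +kernel

theorem l45 : P.chkLet 3 lcl ivl 45 = true := by decide +kernel

theorem l46 : P.chkLet 3 lcl ivl 46 = true := by decide +kernel

theorem l47 : P.chkLet 3 lcl ivl 47 = true := by decide +kernel

theorem l48 : P.chkLet 3 lcl ivl 48 = true := by decide +kernel

theorem l49 : P.chkLet 3 lcl ivl 49 = true := by decide +kernel

theorem l50 : P.chkLet 3 lcl ivl 50 = true := by decide +kernel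

theorem l51 : P.chkLet 3 lcl ivl 51 = true := by decide +kernel

theorem l52 : P.chkLet 3 lcl ivl 52 = true := by decide +kernel

theorem l53 : P.chkLet 3 lcl ivl 53 = true := by decide +kernel

theorem l54 : P.chkLet 3 lcl ivl 54 = true := by decide +kernel

theorem l55 : P.chkLet 3 lcl ivl 55 = true := by decide +kernel

theorem l56 : P.chkLet 3 lcl ivl 56 = true := by decide +kernel

theorem l57 : P.chkLet 3 lcl ivl 57 = true := by decide +kernel

theorem l58 : P.chkLet 3 lcl ivl 58 = true := by decide +kernel

theorem l59 : P.chkLet 3 lcl ivl 59 = true := by decide +kernel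

theorem l60 : P.chkLet 3 lcl ivl 60 = true := by decide +kernel

theorem l61 : P.chkLet 3 lcl ivl 61 = true := by decide +kernel

theorem l62 : P.chkLet 3 lcl ivl 62 = true := by decide +kernel

theorem l63 : P.chkLet 3 lcl ivl 63 = true := by decide +kernel

theorem l64 : P.chkLet 3 lcl ivl 64 = true := by decide +kernel

theorem l65 : P.chkLet 3 lcl ivl 65 = true := by decide +kernel

theorem l66 : P.chkLet 3 lcl ivl 66 = true := by decide +kernel

theorem l67 : P.chkLet 3 lcl ivl 67 = true := by decide +kernel

theorem l68 : P.chkLet 3 lcl ivl 68 = true := by decide +kernel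

theorem l69 : P.chkLet 3 lcl ivl 69 = true := by decide +kernel

theorem l70 : P.chkLet 3 lcl ivl 70 = true := by decide +kernel

theorem l71 : P.chkLet 3 lcl ivl 71 = true := by decide +kernel

theorem l72 : P.chkLet 3 lcl ivl 72 = true := by decide +kernel

theorem l73 : P.chkLet 3 lcl ivl 73 = true := by decide +kernel

theorem l74 : P.chkLet 3 lcl ivl 74 = true := by decide +kernel

theorem l75 : P.chkLet 3 lcl ivl 75 = true := by decide +kernel

theorem l76 : P.chkLet 3 lcl ivl 76 = true := by decide +kernel

theorem l77 : P.chkLet 3 lcl ivl 77 = true := by decide +kernel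

theorem r0 : chkRelC P.mul P.one lc (ivOf ivl) G0 = true := by decide +kernel

theorem r1 : chkRelC P.mul P.one lc (ivOf ivl) G1 = true := by decide +kernel

end H19.Ly.R111
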