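import Mathlib
import Cfsg.Agent.H19.Ly.R111.B

set_option autoImplicit false
set_option maxRecDepth 100000
set_option Elab.async false
set_option linter.all false

namespace H19.Ly.R111
open H29

theorem r18 : chkRelC P.mul P.one lc (ivOf ivl) G18 = true := by decide +kernel

theorem r19 : chkRelC P.mul P.one lc (ivOf ivl) G19 = true := by decide +kernel

end H19.Ly.R111
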